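import Cfsg.Agent.Blocks.Defect.InducedPair
import Cfsg.Agent.Blocks.Defect.LocalBlocks
import Cfsg.Agent.Blocks.Defect.Nilpotent
import Cfsg.Agent.Blocks.Defect.InducedIn
import Cfsg.Agent.Blocks.HeightZero.PrincipalSection
import Cfsg.Agent.Blocks.Subsection.Major

/-!
# Subsections of a block with abelian defect group

* `isMaxPairIdem_of_induced`: a block of `C(P)` inducing `B` gives a maximal pair;
* `isInducedBlock_iff_pair`: the blocks of `C(x)` inducing `B` are the pairs of `B` at `⟨x⟩`;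
* `maxPair_centralizer`, `exists_carry`: pairs below two maximal pairs;
* `exists_subsection_map`: the subsections are the orbits of the inertial group on the defect group.
-/

set_option autoImplicit false
set_option linter.style.haveILetI false
open Cfsg
open scoped MonoidAlgebra

namespace CfsgLib.Blocks.KleinFour

universe u

variable {M : Ideal AlgInt} [hM : M.IsMaximal] {G : Type u} [Group G] [Finite G]
  {p : ℕ} [Fact p.Prime] [CharP (kres M) p] {B : Set (IrrCharacter G)} {P : Subgroup G}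

omit hM [Finite G] [Fact p.Prime] in
theorem le_centralizer_of_abelian (hab : ∀ x ∈ P, ∀ y ∈ P, x * y = y * x) {Q : Subgroup G}
    (hQP : Q ≤ P) : P ≤ Subgroup.centralizer (Q : Set G) := fun x hx =>
  Subgroup.mem_centralizer_iff.mpr fun q hq => hab q (hQP hq) x hx

/-- A block of the centralizer of an abelian defect group inducing `B` gives a maximal pair. -/
theorem isMaxPairIdem_of_induced (hp : IsPModular p M) (hB : IsPBlock M B)
    (hPD : IsDefectGroup p M B P) (hab : ∀ x ∈ P, ∀ y ∈ P, x * y = y * x)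
    {c : Set (IrrCharacter (Subgroup.centralizer (P : Set G)))}
    (hc : IsInducedBlock M (Subgroup.centralizer (P : Set G)) c B) :
    IsMaxPairIdem p ⊤ (topEl M B) P (subEl M (Subgroup.centralizer (P : Set G)) c) := by
  have hD := (isDefectGroup_topEl_iff (M := M) hB P).1 hPD
  have hover := (isInducedBlock_iff_brOver hp hD.2.1 (le_centralizer_of_abelian hab le_rfl) le_rfl
    (Subgroup.centralizer_le_normalizer _) hc.1 hB).1 hc
  refine ⟨⟨(isBrauerPair_iff hc.1).mp ⟨hD.2.1, hc.1⟩, hover⟩, fun R r hR hle => ?_⟩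
  refine (Subgroup.eq_of_le_of_card_ge hle.le (hD.card_le le_top hR.1.1 fun h0 => ?_)).symm
  have h1 : brTrunc R (topEl M B) * r = r := hR.2
  rw [h0, zero_mul] at h1
  exact hR.1.2.2.ne_zero h1.symm

/-- A block with an abelian defect group has a maximal pair there. -/
theorem exists_maxPair (hB : IsPBlock M B) (hPD : IsDefectGroup p M B P) :
    ∃ g : MonoidAlgebra (kres M) G, IsMaxPairIdem p ⊤ (topEl M B) P g := by
  have hD := (isDefectGroup_topEl_iff (M := M) hB P).1 hPD
  obtain ⟨f, hf, hover⟩ := (⟨hD.2.1, le_top, inf_le_right, le_top,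
    Subgroup.centralizer_le_normalizer _⟩ :
      BrSetting p ⊤ P (Subgroup.centralizer (P : Set G))).exists_block_over
        (isBlockIdem_topEl hB) hD.2.2.1
  refine ⟨f, ⟨⟨hD.2.1, le_top, by rwa [top_inf_eq]⟩, hover⟩, fun R r hR hle => ?_⟩
  refine (Subgroup.eq_of_le_of_card_ge hle.le (hD.card_le le_top hR.1.1 fun h0 => ?_)).symm
  have h1 : brTrunc R (topEl M B) * r = r := hR.2
  rw [h0, zero_mul] at h1
  exact hR.1.2.2.ne_zero h1.symm

omit [Finite G] [Fact p.Prime] in
theorem isPGroup_zpowers {x : G} (hx : ∃ e : ℕ, orderOf x = p ^ e) :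
    IsPGroup p (Subgroup.zpowers x) := by
  obtain ⟨e, he⟩ := hx
  exact IsPGroup.of_card (n := e) (by rw [Nat.card_zpowers, he])

/-- The blocks of `C(x)` inducing `B` are its pairs at `⟨x⟩`. -/
theorem isInducedBlock_iff_pair (hp : IsPModular p M) (hB : IsPBlock M B) {x : G}
    (hx : ∃ e : ℕ, orderOf x = p ^ e)
    {b : Set (IrrCharacter (Subgroup.centralizer ({x} : Set G)))} (hb : IsPBlock M b) :
    IsInducedBlock M (Subgroup.centralizer ({x} : Set G)) b B ↔
      IsPairOfIdem p ⊤ (topEl M B) (Subgroup.zpowers x)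
        (subEl M (Subgroup.centralizer ({x} : Set G)) b) := by
  have hC := HeightZero.centralizer_zpowers_eq x
  have hQC : Subgroup.zpowers x ≤ Subgroup.centralizer ({x} : Set G) :=
    Subgroup.zpowers_le.2 (Subgroup.mem_centralizer_singleton_iff.2 rfl)
  rw [isInducedBlock_iff_brOver hp (isPGroup_zpowers hx) hQC hC.le
    (hC.symm.le.trans (Subgroup.centralizer_le_normalizer _)) hb hB]
  refine ⟨fun h => ⟨⟨isPGroup_zpowers hx, le_top, ?_⟩, h⟩, fun h => h.2⟩
  rw [top_inf_eq, hC]
  exact isBlockIdem_subEl hb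

/-- Pairs of `B` at `⟨x⟩` are blocks of `C(x)`. -/
theorem exists_block_of_isPairOf (hp : IsPModular p M) (hB : IsPBlock M B) {x : G}
    (hx : ∃ e : ℕ, orderOf x = p ^ e) {f : MonoidAlgebra (kres M) G}
    (hf : IsPairOfIdem p ⊤ (topEl M B) (Subgroup.zpowers x) f) :
    ∃ b, IsInducedBlock M (Subgroup.centralizer ({x} : Set G)) b B ∧
      subEl M (Subgroup.centralizer ({x} : Set G)) b = f := by
  have hbl := hf.1.2.2
  rw [top_inf_eq, HeightZero.centralizer_zpowers_eq] at hbl
  obtain ⟨b, hb, rfl⟩ := exists_subEl_eq (M := M) hbl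
  exact ⟨b, (isInducedBlock_iff_pair hp hB hx hb).2 hf, rfl⟩

/-- Below a maximal pair with abelian group the pair is maximal in the centralizer. -/
theorem maxPair_centralizer {Q : Subgroup G} {e g f : MonoidAlgebra (kres M) G}
    (he : IsBlockIdem ⊤ e) (hmax : IsMaxPairIdem p ⊤ e P g)
    (hab : ∀ x ∈ P, ∀ y ∈ P, x * y = y * x) (hf : PairLE p ⊤ Q f P g) :
    IsMaxPairIdem p (Subgroup.centralizer (Q : Set G)) f P g ∧
      IsDefectGroupIdem p (Subgroup.centralizer (Q : Set G)) f P := by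
  have hg := hmax.1.1
  have hQP := hf.le
  have hPC := le_centralizer_of_abelian hab hQP
  have hnorm := hf.isNormal hg (hPC.trans (Subgroup.centralizer_le_normalizer _))
  have hD : IsDefectGroupIdem p (Subgroup.centralizer (Q : Set G)) f
      (P ⊓ Subgroup.centralizer (Q : Set G)) := by
    refine (isDefectGroupIdem_centralizer_iff he hmax hf).mp fun x _ => ?_
    rw [inf_eq_left.mpr hPC]
    exact Subgroup.card_le_of_le inf_le_left
  rw [inf_eq_left.mpr hPC] at hD
  have hP : IsPairOfIdem p (Subgroup.centralizer (Q : Set G)) f P g :=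
    ⟨⟨hg.1, hPC, by
      rw [inf_eq_right.mpr (Subgroup.centralizer_le hQP)]
      have := hg.2.2
      rwa [top_inf_eq] at this⟩, hnorm.2.2.2.2.2⟩
  refine ⟨⟨hP, fun S s hS hle => ?_⟩, hD⟩
  refine (hD.eq_of_le hle.le hS.1.2.1 hS.1.1 fun h0 => ?_).symm
  have h1 : brTrunc S f * s = s := hS.2
  rw [h0, zero_mul] at h1
  exact hS.1.2.2.ne_zero h1.symm

/-- Two maximal pairs over one pair are conjugate in its centralizer. -/
theorem exists_carry {P' Q : Subgroup G} {e g g' f : MonoidAlgebra (kres M) G}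
    (he : IsBlockIdem ⊤ e) (hmax : IsMaxPairIdem p ⊤ e P g)
    (hmax' : IsMaxPairIdem p ⊤ e P' g') (hab : ∀ x ∈ P, ∀ y ∈ P, x * y = y * x)
    (hab' : ∀ x ∈ P', ∀ y ∈ P', x * y = y * x) (hf : PairLE p ⊤ Q f P g)
    (hf' : PairLE p ⊤ Q f P' g') :
    ∃ c ∈ Subgroup.centralizer (Q : Set G),
      P'.map (MulAut.conj c).toMonoidHom = P ∧ Blocks.conjA c g' = g := by
  have hbC : IsBlockIdem (Subgroup.centralizer (Q : Set G)) f := by
    have := (hf.isPair_left hmax.1.1).2.2
    rwa [top_inf_eq] at this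
  exact (maxPair_centralizer he hmax hab hf).1.exists_conj hbC
    (maxPair_centralizer he hmax' hab' hf').1

omit [Finite G] hM [Fact p.Prime] in
theorem zpowers_map_conj (g x : G) :
    (Subgroup.zpowers x).map (MulAut.conj g).toMonoidHom = Subgroup.zpowers (g * x * g⁻¹) := by
  rw [MonoidHom.map_zpowers]
  rfl

/-- The maximal pairs conjugate to a given one. -/
theorem isMaxPairIdem_conj {e g : MonoidAlgebra (kres M) G} (he : IsBlockIdem ⊤ e)
    (hmax : IsMaxPairIdem p ⊤ e P g) (y : G) :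
    IsMaxPairIdem p ⊤ e (P.map (MulAut.conj y).toMonoidHom) (Blocks.conjA y g) := by
  refine ⟨hmax.1.conjA he.1 (Subgroup.mem_top y), fun R r hR hle => ?_⟩
  refine (Subgroup.eq_of_le_of_card_ge hle.le ?_).symm
  rw [card_map_conj]
  refine (hmax.isDefectGroupIdem he).card_le le_top hR.1.1 fun h0 => ?_
  have h1 : brTrunc R e * r = r := hR.2
  rw [h0, zero_mul] at h1
  exact hR.1.2.2.ne_zero h1.symm

/-- Every subsection lies below a conjugate of the maximal pair. -/
theorem exists_maxPair_above (hp : IsPModular p M) (hB : IsPBlock M B)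
    {g : MonoidAlgebra (kres M) G} (hmax : IsMaxPairIdem p ⊤ (topEl M B) P g) {x : G}
    (hx : ∃ e : ℕ, orderOf x = p ^ e)
    {b : Set (IrrCharacter (Subgroup.centralizer ({x} : Set G)))}
    (hb : IsInducedBlock M (Subgroup.centralizer ({x} : Set G)) b B) :
    ∃ y : G, PairLE p ⊤ (Subgroup.zpowers x) (subEl M _ b) (P.map (MulAut.conj y).toMonoidHom)
      (Blocks.conjA y g) ∧ y⁻¹ * x * y ∈ P := by
  have he := isBlockIdem_topEl (M := M) hB
  obtain ⟨z, -, hle⟩ := ((isInducedBlock_iff_pair hp hB hx hb.1).1 hb).exists_conj_le he hmax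
  refine ⟨z⁻¹, ?_, ?_⟩
  · have h := hle.conjA (x := z⁻¹) trivial
    rwa [map_conj_map_conj, inv_mul_cancel, map_conj_one, conjA_conjA, inv_mul_cancel,
      conjA_one_left] at h
  · have h := hle.le ⟨x, Subgroup.mem_zpowers x, rfl⟩
    simpa using h

omit [Fact p.Prime] [CharP (kres M) p] in
/-- Subsections agree when their idempotents do. -/
theorem subsection_ext {q : G → Prop} {x y : {x : G // q x}}
    {b : Set (IrrCharacter (Subgroup.centralizer ({(x : G)} : Set G)))}
    {c : Set (IrrCharacter (Subgroup.centralizer ({(y : G)} : Set G)))}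
    (hb : IsInducedBlock M (Subgroup.centralizer ({(x : G)} : Set G)) b B)
    (hc : IsInducedBlock M (Subgroup.centralizer ({(y : G)} : Set G)) c B) (hxy : x = y)
    (h : subEl M _ b = subEl M _ c) :
    (⟨x, b, hb⟩ : Σ x : {x : G // q x},
      {b : Set (IrrCharacter (Subgroup.centralizer ({(x : G)} : Set G))) //
        IsInducedBlock M (Subgroup.centralizer ({(x : G)} : Set G)) b B}) = ⟨y, c, hc⟩ := by
  subst hxy
  obtain rfl := subEl_injective hb.1 hc.1 h
  rfl

omit [Fact p.Prime] [CharP (kres M) p] in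
/-- Equal subsections have equal idempotents. -/
theorem subsection_inj {q : G → Prop} {x y : {x : G // q x}}
    {b : Set (IrrCharacter (Subgroup.centralizer ({(x : G)} : Set G)))}
    {c : Set (IrrCharacter (Subgroup.centralizer ({(y : G)} : Set G)))}
    {hb : IsInducedBlock M (Subgroup.centralizer ({(x : G)} : Set G)) b B}
    {hc : IsInducedBlock M (Subgroup.centralizer ({(y : G)} : Set G)) c B}
    (h : (⟨x, b, hb⟩ : Σ x : {x : G // q x},
      {b : Set (IrrCharacter (Subgroup.centralizer ({(x : G)} : Set G))) //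
        IsInducedBlock M (Subgroup.centralizer ({(x : G)} : Set G)) b B}) = ⟨y, c, hc⟩) :
    (x : G) = y ∧ subEl M _ b = subEl M _ c := by
  obtain ⟨h1, h2⟩ := Sigma.mk.inj_iff.1 h
  subst h1
  obtain rfl : b = c := congrArg Subtype.val (eq_of_heq h2)
  exact ⟨rfl, rfl⟩

/-- The subsections of an abelian defect group, restricted to a class-invariant condition, are the
orbits of the inertial group. -/
theorem exists_subsection_map (hp : IsPModular p M) (hB : IsPBlock M B)
    {g : MonoidAlgebra (kres M) G} (hmax : IsMaxPairIdem p ⊤ (topEl M B) P g)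
    (hab : ∀ x ∈ P, ∀ y ∈ P, x * y = y * x) (X : Finset G)
    (hX : ∀ x ∈ X, ∃ k : ℕ, orderOf x = p ^ k)
    (hXrep : ∀ v : G, (∃ k : ℕ, orderOf v = p ^ k) → ∃! x, x ∈ X ∧ IsConj v x)
    (pr : G → Prop) (hpr : ∀ a v : G, pr (a * v * a⁻¹) ↔ pr v) :
    ∃ Φ : {u : G // u ∈ P ∧ pr u} →
        (Σ x : {x : G // x ∈ X ∧ pr x}, {b : Set (IrrCharacter (Subgroup.centralizer ({(x : G)} : Set G))) //
          IsInducedBlock M (Subgroup.centralizer ({(x : G)} : Set G)) b B}),
      Function.Surjective Φ ∧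
      ∀ u v, Φ u = Φ v ↔ ∃ t ∈ pairStab ⊤ P g, t * (u : G) * t⁻¹ = (v : G) := by
  classical
  have he := isBlockIdem_topEl (M := M) hB
  have hg := hmax.1.1
  have hsub : ∀ u : {u : G // u ∈ P ∧ pr u}, ∃ f, PairLE p ⊤ (Subgroup.zpowers (u : G)) f P g :=
    fun u => (hg.existsUnique_le (Subgroup.zpowers_le.2 u.2.1)).exists
  choose f hf using hsub
  have hord : ∀ u : {u : G // u ∈ P ∧ pr u}, ∃ k : ℕ, orderOf (u : G) = p ^ k := fun u => by
    obtain ⟨k, hk⟩ := IsPGroup.iff_orderOf.1 hg.1 ⟨u, u.2.1⟩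
    exact ⟨k, by rw [← hk, Subgroup.orderOf_mk]⟩
  have hconj : ∀ u : {u : G // u ∈ P ∧ pr u}, ∃ (x : {x : G // x ∈ X ∧ pr x}) (a : G),
      a * (u : G) * a⁻¹ = (x : G) := fun u => by
    obtain ⟨x, ⟨hxX, hx⟩, -⟩ := hXrep u (hord u)
    obtain ⟨a, ha⟩ := isConj_iff.1 hx
    exact ⟨⟨x, hxX, by rw [← ha, hpr]; exact u.2.2⟩, a, ha⟩
  choose xr a ha using hconj
  have hblock : ∀ u : {u : G // u ∈ P ∧ pr u},
      ∃ b, IsInducedBlock M (Subgroup.centralizer ({(xr u : G)} : Set G)) b B ∧
        subEl M (Subgroup.centralizer ({(xr u : G)} : Set G)) b = Blocks.conjA (a u) (f u) := by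
    intro u
    refine exists_block_of_isPairOf hp hB (hX _ (xr u).2.1) ?_
    rw [← ha u, ← zpowers_map_conj]
    exact (((hf u).pairOf_iff he hg).2 hmax.1).conjA he.1 (Subgroup.mem_top _)
  choose b hb hbf using hblock
  refine ⟨fun u => ⟨xr u, b u, hb u⟩, ?_, fun u v => ?_⟩
  · rintro ⟨⟨x, hxX, hxpr⟩, c, hc⟩
    obtain ⟨y, hy, hyP⟩ := exists_maxPair_above hp hB hmax (hX x hxX) hc
    let u : {u : G // u ∈ P ∧ pr u} :=
      ⟨y⁻¹ * x * y, hyP, by simpa using (hpr y⁻¹ x).2 hxpr⟩
    refine ⟨u, ?_⟩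
    have hxu : (xr u : G) = x := (hXrep u (hord u)).unique
      ⟨(xr u).2.1, isConj_iff.2 ⟨a u, ha u⟩⟩
      ⟨hxX, isConj_iff.2 ⟨y, by show y * (y⁻¹ * x * y) * y⁻¹ = x; group⟩⟩
    have hx' : xr u = ⟨x, hxX, hxpr⟩ := Subtype.ext hxu
    -- the pair of `u` transported to `x`
    have h1 := (hf u).conjA (x := a u) trivial
    rw [zpowers_map_conj, ha u, hxu, ← hbf u] at h1
    have hau := ha u
    rw [hxu] at hau
    have hkey : subEl M _ (b u) = subEl M _ c := by
      -- compare both through the pair below `(P, g)`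
      have h2 := hy.conjA (x := y⁻¹) trivial
      rw [zpowers_map_conj, inv_inv, map_conj_map_conj, inv_mul_cancel, map_conj_one, conjA_conjA,
        inv_mul_cancel, conjA_one_left] at h2
      have h3 := h2.unique hg (hf u)
      rw [hbf u, ← h3, conjA_conjA]
      -- the element `a u * y⁻¹` centralizes `x`
      have hcx : a u * y⁻¹ ∈ Subgroup.centralizer ({x} : Set G) := by
        rw [Subgroup.mem_centralizer_singleton_iff]
        calc a u * y⁻¹ * x = a u * (y⁻¹ * x * y) * (a u)⁻¹ * (a u * y⁻¹) := by group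
          _ = x * (a u * y⁻¹) := by rw [show a u * (y⁻¹ * x * y) * (a u)⁻¹ = x from hau]
      exact mem_conjStab.1 (isFixedBy_iff_le_conjStab.1 (isBlockIdem_subEl hc.1).mem.2 hcx)
    exact subsection_ext _ _ hx' hkey
  · constructor
    · intro h
      obtain ⟨hx', he'⟩ := subsection_inj h
      have hx : (xr v : G) = xr u := hx'.symm
      have he2 : Blocks.conjA (a u) (f u) = Blocks.conjA (a v) (f v) := by
        rw [← hbf u, ← hbf v]
        exact he'
      set d := (a v)⁻¹ * a u with hd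
      have hduv : d * (u : G) * d⁻¹ = v := by
        calc d * (u : G) * d⁻¹ = (a v)⁻¹ * (a u * (u : G) * (a u)⁻¹) * a v := by rw [hd]; group
          _ = (a v)⁻¹ * (a v * (v : G) * (a v)⁻¹) * a v := by rw [ha u, ha v, hx]
          _ = v := by group
      have hf1 := (hf u).conjA (x := d) trivial
      rw [zpowers_map_conj, hduv, hd, ← conjA_conjA, he2, conjA_conjA, inv_mul_cancel,
        conjA_one_left, ← hd] at hf1
      obtain ⟨c, hc, hcP, hcg⟩ := exists_carry he hmax (isMaxPairIdem_conj he hmax d) hab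
        (by
          rintro _ ⟨s, hs, rfl⟩ _ ⟨t, ht, rfl⟩
          rw [← map_mul, ← map_mul, hab s hs t ht]) (hf v) hf1
      rw [map_conj_map_conj] at hcP
      rw [conjA_conjA] at hcg
      refine ⟨c * d, mem_pairStab.2 ⟨⟨trivial, mem_normalizer_of_map_conj_le hcP.le⟩, hcg⟩, ?_⟩
      rw [HeightZero.centralizer_zpowers_eq, Subgroup.mem_centralizer_singleton_iff] at hc
      calc c * d * (u : G) * (c * d)⁻¹ = c * (d * (u : G) * d⁻¹) * c⁻¹ := by group
        _ = v := by rw [hduv, hc, mul_inv_cancel_right]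
    · rintro ⟨t, ht, htu⟩
      obtain ⟨⟨-, htN⟩, htg⟩ := mem_pairStab.1 ht
      have hf1 := (hf u).conjA (x := t) trivial
      rw [zpowers_map_conj, htu, map_conj_eq_self_of_mem_normalizer htN, htg] at hf1
      have h3 := hf1.unique hg (hf v)
      have hx : xr u = xr v := Subtype.ext ((hXrep v (hord v)).unique
        ⟨(xr u).2.1, isConj_iff.2 ⟨a u * t⁻¹, by rw [← htu, ← ha u]; group⟩⟩
        ⟨(xr v).2.1, isConj_iff.2 ⟨a v, ha v⟩⟩)
      have hax : (a u * t⁻¹ * (a v)⁻¹) ∈ Subgroup.centralizer ({(xr v : G)} : Set G) := by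
        rw [Subgroup.mem_centralizer_singleton_iff]
        calc a u * t⁻¹ * (a v)⁻¹ * (xr v : G)
            = a u * t⁻¹ * ((v : G)) * t * (a u)⁻¹ * (a u * t⁻¹ * (a v)⁻¹) := by rw [← ha v]; group
          _ = (xr v : G) * (a u * t⁻¹ * (a v)⁻¹) := by
              rw [show a u * t⁻¹ * (v : G) * t * (a u)⁻¹ = xr v by
                rw [← htu, ← congrArg Subtype.val hx, ← ha u]; group]
      have hkey : Blocks.conjA (a u) (f u) = Blocks.conjA (a v) (f v) := by
        have hfix := mem_conjStab.1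
          (isFixedBy_iff_le_conjStab.1 (isBlockIdem_subEl (M := M) (hb v).1).mem.2 hax)
        rw [hbf v, conjA_conjA, inv_mul_cancel_right, ← h3, conjA_conjA, inv_mul_cancel_right,
          h3] at hfix
        exact hfix
      rw [← hbf u, ← hbf v] at hkey
      exact subsection_ext _ _ hx hkey

end CfsgLib.Blocks.KleinFour
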