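import Cfsg.Agent.Blocks.DefectOne.Two

/-!
# A major subsection of rank one in a 2-block of defect two

The contributions of an involution form an integral matrix with odd entries, trace four and rows
with sum of squares four times the diagonal: the block has exactly four characters.
-/

set_option autoImplicit false
open Cfsg CfsgLib Polynomial
open CfsgLib.Blocks CfsgLib.Blocks.HeightZero CfsgLib.Blocks.Contrib

namespace CfsgLib.Blocks.KleinFour

universe u

variable {G : Type u} [Group G] {M : Ideal AlgInt} {x : G} {B : Set (IrrCharacter G)}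

theorem natCard_eq_four [Fintype G] (hM : IsPModular 2 M) (hx : orderOf x = 2)
    (hB : IsPBlock M B) (hdB : blockDefect 2 B = 2) {H : Subgroup G} [Fintype H]
    (hH : H = Subgroup.centralizer ({x} : Set G)) {b : Set (IrrCharacter H)}
    (hind : IsInducedBlock M H b B) (hdb : blockDefect 2 b = 2) (hl : blockRank 2 b = 1) :
    Nat.card B = 4 := by
  classical
  have := isMaximal_of_isPModular hM
  haveI : Fact (Nat.Prime 2) := ⟨Nat.prime_two⟩
  have hu : ∃ e : ℕ, orderOf x = 2 ^ e := ⟨1, by rw [hx, pow_one]⟩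
  have h0 : ∀ χ ∈ B, blockHeight 2 B (χ : G → ℂ) = 0 := by
    intro χ hχ
    by_contra h
    have := height_add_two_le_blockDefect hM hB hχ h
    omega
  set T := B.toFinite.toFinset with hT
  have hTm : ∀ χ, χ ∈ T ↔ χ ∈ B := fun χ => Set.Finite.mem_toFinset _
  have hP : ∀ χ ψ : IrrCharacter G, ∃ m : ℤ, contrib 2 b x χ ψ = (m : ℂ) ∧
      (χ ∈ B → ψ ∈ B → Odd m) := by
    intro χ ψ
    obtain ⟨P, hP⟩ := exists_poly (p := 2) hM hind.1 hH (N := 2) (by rw [← hx, pow_orderOf_eq_one])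
      (IsPrimitiveRoot.neg_one 0 (by norm_num)) χ ψ
    have e1 : contrib 2 b x χ ψ = ((P.eval (-1) : ℤ) : ℂ) := by
      have := hP 1
      rw [pow_one, pow_one, show (-1 : ℂ) = algebraMap ℤ ℂ (-1) by simp,
        aeval_algebraMap_apply_eq_algebraMap_eval] at this
      simpa using this
    refine ⟨_, e1, fun hχ hψ => ?_⟩
    have e0 : contrib 2 b (1 : G) χ ψ = ((P.eval 1 : ℤ) : ℂ) := by
      have := hP 0
      rw [pow_zero, pow_zero, show (1 : ℂ) = algebraMap ℤ ℂ 1 by simp,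
        aeval_algebraMap_apply_eq_algebraMap_eval] at this
      simpa using this
    have hu1 : ¬ (2 : ℤ) ∣ P.eval 1 := by
      intro hd
      refine not_memLocalIdeal_contrib_one hM hind hχ (h0 χ hχ) hψ (h0 ψ hψ) ?_
      rw [e0]
      have : MemLocalIdeal M (((P.eval 1 : ℤ) : AlgInt) : ℂ) :=
        memLocalIdeal_coe_iff.2 ((intCast_mem_iff hM _).2 (by simpa using hd))
      simpa using this
    have hsub : ((1 : ℤ) - -1) ∣ P.eval 1 - P.eval (-1) := sub_dvd_eval_sub _ _ _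
    norm_num at hsub
    rw [Int.odd_iff]
    omega
  choose m hm hodd using hP
  have hrow : ∀ χ, ∑ ψ ∈ T, m χ ψ ^ 2 = 4 * m χ χ := by
    intro χ
    have h := sum_contrib_mul_conj hM hH hu hind χ
    simp only [hm, map_intCast, hdb] at h
    rw [← Int.cast_inj (α := ℂ)]
    push_cast at h ⊢
    norm_num at h
    simpa [hT, pow_two] using h
  have htr : ∑ χ ∈ T, m χ χ = 4 := by
    have h := sum_contrib_self hM hH hu hind
    simp only [hm, hdb, hl] at h
    norm_num at h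
    exact_mod_cast (by simpa [hT] using h : ((∑ χ ∈ T, m χ χ : ℤ) : ℂ) = ((4 : ℤ) : ℂ))
  have hsq : ∀ χ ∈ T, ∀ ψ ∈ T, 1 ≤ m χ ψ ^ 2 := by
    intro χ hχ ψ hψ
    have h := hodd χ ψ ((hTm _).1 hχ) ((hTm _).1 hψ)
    have : m χ ψ ≠ 0 := fun h0 => by simp [h0] at h
    have := sq_pos_of_ne_zero this
    omega
  have hpos : ∀ χ ∈ T, 1 ≤ m χ χ := fun χ hχ => by
    have h1 := Finset.single_le_sum (f := fun ψ => m χ ψ ^ 2) (fun ψ _ => sq_nonneg _) hχ
    have h2 := hsq χ hχ χ hχ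
    simp only [hrow] at h1
    omega
  have hle : T.card ≤ 4 := by
    have : (T.card : ℤ) ≤ 4 := by
      calc (T.card : ℤ) = ∑ χ ∈ T, 1 := by simp
        _ ≤ ∑ χ ∈ T, m χ χ := Finset.sum_le_sum hpos
        _ = 4 := htr
    exact_mod_cast this
  rw [Nat.card_eq_card_finite_toFinset B.toFinite]
  change T.card = 4
  have hev : Even T.card := by
    have h : (Even (∑ χ ∈ T, m χ χ)) := by rw [htr]; decide
    have h2 : Even ((∑ χ ∈ T, (m χ χ - 1)) : ℤ) :=
      Finset.even_sum _ fun χ hχ => (hodd χ χ ((hTm _).1 hχ) ((hTm _).1 hχ)).sub_odd odd_one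
    rw [Finset.sum_sub_distrib, Finset.sum_const, nsmul_eq_mul, mul_one, Int.even_sub] at h2
    exact_mod_cast h2.1 h
  have hne : T.Nonempty := by
    obtain ⟨χ, hχ⟩ := nonempty_of_isPBlock hB
    exact ⟨χ, (hTm χ).2 hχ⟩
  have := Finset.card_pos.2 hne
  obtain ⟨r, hr⟩ := hev
  by_contra hne4
  obtain ⟨χ, ψ, hne', hTeq⟩ := Finset.card_eq_two.1 (by omega : T.card = 2)
  have hχ : χ ∈ T := by simp [hTeq]
  have hψ : ψ ∈ T := by simp [hTeq]
  have r1 := hrow χ
  have r2 := hrow ψ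
  rw [hTeq, Finset.sum_pair hne'] at r1 r2 htr
  have o1 := hodd χ χ ((hTm _).1 hχ) ((hTm _).1 hχ)
  have p1 := hpos χ hχ
  have p2 := hpos ψ hψ
  rw [Int.odd_iff] at o1
  have hcases : m χ χ = 1 ∨ m χ χ = 3 := by omega
  rcases hcases with h | h
  · rw [h] at r1
    have h4 : |m χ ψ| < 2 := by nlinarith [sq_abs (m χ ψ)]
    have h5 := hsq χ hχ ψ hψ
    have : m χ ψ ^ 2 = 1 := by nlinarith [sq_abs (m χ ψ), abs_nonneg (m χ ψ)]
    omega
  · rw [show m ψ ψ = 1 by omega] at r2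
    have h4 : |m ψ χ| < 2 := by nlinarith [sq_abs (m ψ χ)]
    have h5 := hsq ψ hψ χ hχ
    have : m ψ χ ^ 2 = 1 := by nlinarith [sq_abs (m ψ χ), abs_nonneg (m ψ χ)]
    omega

end CfsgLib.Blocks.KleinFour
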