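import Cfsg.Agent.Blocks.KleinFour.Major
import Cfsg.Agent.Blocks.KleinFour.Pairs
import Cfsg.Agent.Blocks.KleinFour.Count

/-!
# Blocks with a Klein four defect group

* `inertial`: the inertial group acts freely, with index one or three, transitively in the latter case;
* `blockRank_eq_one_of_central`: an involution of the defect group in the centre forces rank one;
* `natCard_and_rank`: four characters, and rank equal to the inertial index.
-/

set_option autoImplicit false
set_option linter.style.haveILetI false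
open Cfsg
open scoped MonoidAlgebra

namespace CfsgLib.Blocks.KleinFour

universe u

variable {G : Type u} [Group G] [Finite G] {P : Subgroup G}

omit [Finite G] in
theorem comm_of_klein (hV : IsKleinFour P) : ∀ x ∈ P, ∀ y ∈ P, x * y = y * x := fun x hx y hy =>
  congrArg Subtype.val (mul_comm_of_exponent_two hV.exponent_two (⟨x, hx⟩ : P) ⟨y, hy⟩)

omit [Finite G] in
theorem mul_self_of_klein (hV : IsKleinFour P) {x : G} (hx : x ∈ P) : x * x = 1 :=
  haveI := hV
  congrArg Subtype.val (IsKleinFour.mul_self (⟨x, hx⟩ : P))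

omit [Finite G] in
theorem orderOf_of_klein (hV : IsKleinFour P) {x : G} (hx : x ∈ P) (hx1 : x ≠ 1) : orderOf x = 2 :=
  orderOf_eq_prime (by rw [pow_two, mul_self_of_klein hV hx]) hx1

omit [Finite G] in
theorem eq_of_klein (hV : IsKleinFour P) {x y z : G} (hx : x ∈ P) (hy : y ∈ P) (hz : z ∈ P)
    (hx1 : x ≠ 1) (hy1 : y ≠ 1) (hxy : x ≠ y) : z = 1 ∨ z = x ∨ z = y ∨ z = x * y := by
  haveI := hV
  by_contra h
  simp only [not_or] at h
  have h' := IsKleinFour.eq_mul_of_ne_all (x := (⟨x, hx⟩ : P)) (y := ⟨y, hy⟩) (z := ⟨z, hz⟩)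
    (fun e => hx1 (congrArg Subtype.val e)) (fun e => hy1 (congrArg Subtype.val e))
    (fun e => hxy (congrArg Subtype.val e)) (fun e => h.1 (congrArg Subtype.val e))
    (fun e => h.2.1 (congrArg Subtype.val e)) (fun e => h.2.2.1 (congrArg Subtype.val e))
  exact h.2.2.2 (congrArg Subtype.val h')

omit [Finite G] in
theorem isKleinFour_map (hV : IsKleinFour P) (a : G) :
    IsKleinFour (P.map (MulAut.conj a).toMonoidHom) := by
  have e := P.equivMapOfInjective (MulAut.conj a).toMonoidHom (MulAut.conj a).injective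
  exact ⟨by rw [← Nat.card_congr e.toEquiv]; exact hV.card_four,
    by rw [← Monoid.exponent_eq_of_mulEquiv e]; exact hV.exponent_two⟩

omit [Finite G] in
theorem isKleinFour_subgroupOf {H : Subgroup G} (hV : IsKleinFour P) (hPH : P ≤ H) :
    IsKleinFour (P.subgroupOf H) := by
  have e := Subgroup.subgroupOfEquivOfLe hPH
  exact ⟨by rw [Nat.card_congr e.toEquiv]; exact hV.card_four,
    by rw [Monoid.exponent_eq_of_mulEquiv e]; exact hV.exponent_two⟩

variable {M : Ideal AlgInt} {B : Set (IrrCharacter G)}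

theorem blockDefect_of_klein (hM : IsPModular 2 M) (hB : IsPBlock M B)
    (hPD : IsDefectGroup 2 M B P) (hV : IsKleinFour P) : blockDefect 2 B = 2 := by
  have h := Contrib.natCard_defectGroup hM hB hPD
  rw [hV.card_four] at h
  exact (Nat.pow_right_injective le_rfl (h.symm.trans (by norm_num : (4 : ℕ) = 2 ^ 2))).trans rfl

section pairs

variable [M.IsMaximal] [CharP (kres M) 2] [Fact (Nat.Prime 2)]

/-- The inertial group of a maximal pair on a Klein four group. -/
theorem inertial (hB : IsPBlock M B) {g : MonoidAlgebra (kres M) G}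
    (hmax : IsMaxPairIdem 2 ⊤ (topEl M B) P g) (hV : IsKleinFour P) :
    (∀ t ∈ pairStab ⊤ P g, ∀ x ∈ P, x ≠ 1 → t * x * t⁻¹ = x →
      t ∈ Subgroup.centralizer (P : Set G)) ∧
    ((Subgroup.centralizer (P : Set G)).relIndex (pairStab ⊤ P g) = 1 ∨
      ((Subgroup.centralizer (P : Set G)).relIndex (pairStab ⊤ P g) = 3 ∧
        ∀ x ∈ P, x ≠ 1 → ∀ y ∈ P, y ≠ 1 → ∃ t ∈ pairStab ⊤ P g, t * x * t⁻¹ = y)) := by
  classical
  have he := isBlockIdem_topEl (M := M) hB
  set T := pairStab ⊤ P g with hT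
  set C := Subgroup.centralizer (P : Set G) with hC
  have hcomm := comm_of_klein hV
  have hPC : P ≤ C := le_centralizer_of_abelian hcomm le_rfl
  have hTN : T ≤ Subgroup.normalizer (P : Set G) := pairStab_le_normalizer _ _ _
  have hCT : C ≤ T := centralizer_le_pairStab hmax.1.1
  have hD := isDefectGroupIdem_pairStab_self he hmax
  rw [inf_eq_left.mpr (Subgroup.le_normalizer (H := P))] at hD
  have hodd : ¬ 2 ∣ C.relIndex T := by
    have hgb : IsBlockIdem C g := by
      have := hmax.1.1.2.2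
      rwa [top_inf_eq] at this
    have h := not_dvd_relIndex_sup_defectGroup hCT
      (hTN.trans (normalizer_le_normalizer_centralizer P)) hgb hmax.1.1.isBlockIdem_pairStab hD
    rwa [sup_eq_left.2 hPC] at h
  haveI : (C.subgroupOf T).Normal := by
    refine ⟨fun n hn t => ?_⟩
    rw [Subgroup.mem_subgroupOf] at hn ⊢
    simp only [Subgroup.coe_mul, Subgroup.coe_inv]
    exact (Subgroup.mem_normalizer_iff.1 (normalizer_le_normalizer_centralizer P (hTN t.2)) _).1 hn
  have hfree : ∀ t ∈ T, ∀ x ∈ P, x ≠ 1 → t * x * t⁻¹ = x → t ∈ C := by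
    intro t ht x hx hx1 htx
    have hmove : ∀ v ∈ P, t * v * t⁻¹ ∈ P := fun v hv =>
      (Subgroup.mem_normalizer_iff.1 (hTN ht) v).1 hv
    have h2 : t ^ 2 ∈ C := by
      rw [hC, Subgroup.mem_centralizer_iff]
      intro v hv
      have hgoal : t * (t * v * t⁻¹) * t⁻¹ = v := by
        by_cases hvx : v = x
        · rw [hvx, htx, htx]
        by_cases hv1 : v = 1
        · simp [hv1]
        rcases eq_of_klein hV hx hv (hmove v hv) hx1 hv1 (Ne.symm hvx) with h | h | h | h
        · exact absurd (by simpa using h) hv1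
        · exact absurd (mul_left_cancel (mul_right_cancel (h.trans htx.symm))) hvx
        · rw [h, h]
        · rw [h, show t * (x * v) * t⁻¹ = t * x * t⁻¹ * (t * v * t⁻¹) by group, htx, h, ← mul_assoc,
            mul_self_of_klein hV hx, one_mul]
      calc v * t ^ 2 = t * (t * v * t⁻¹) * t⁻¹ * t ^ 2 := by rw [hgoal]
        _ = t ^ 2 * v := by simp [pow_two, mul_assoc]
    have he' : t ^ C.relIndex T ∈ C := by
      have := Subgroup.pow_index_mem (C.subgroupOf T) (⟨t, ht⟩ : T)
      rw [Subgroup.mem_subgroupOf] at this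
      exact this
    obtain ⟨j, hj⟩ : ∃ j, C.relIndex T = 2 * j + 1 := ⟨C.relIndex T / 2, by omega⟩
    rw [hj, pow_succ, pow_mul] at he'
    exact (Subgroup.mul_mem_cancel_left C (pow_mem h2 j)).1 he'
  refine ⟨hfree, ?_⟩
  haveI := hV
  haveI : Nontrivial P := Finite.one_lt_card_iff_nontrivial.1 (by rw [hV.card_four]; norm_num)
  have himg : ∀ x ∈ P, x ≠ 1 →
      ∃ f : T ⧸ C.subgroupOf T → {y : P // y ≠ 1}, Function.Injective f ∧
        ∀ q, ∃ t ∈ T, t * x * t⁻¹ = ((f q : P) : G) := by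
    intro x hx hx1
    refine ⟨Quotient.lift (fun t : T => (⟨⟨(t : G) * x * (t : G)⁻¹,
      (Subgroup.mem_normalizer_iff.1 (hTN t.2) x).1 hx⟩,
        fun h => hx1 (conj_eq_one_iff.1 (congrArg Subtype.val h))⟩ : {y : P // y ≠ 1})) ?_, ?_, ?_⟩
    · intro a b h
      have h' := QuotientGroup.leftRel_apply.1 h
      rw [Subgroup.mem_subgroupOf] at h'
      simp only [Subgroup.coe_mul, Subgroup.coe_inv] at h'
      refine Subtype.ext (Subtype.ext ?_)
      show (a : G) * x * (a : G)⁻¹ = (b : G) * x * (b : G)⁻¹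
      calc (a : G) * x * (a : G)⁻¹ = a * (x * ((a : G)⁻¹ * b)) * (b : G)⁻¹ := by group
        _ = a * ((a : G)⁻¹ * b * x) * (b : G)⁻¹ := by rw [Subgroup.mem_centralizer_iff.1 h' x hx]
        _ = b * x * (b : G)⁻¹ := by group
    · rintro ⟨a⟩ ⟨b⟩ h
      refine Quotient.sound (QuotientGroup.leftRel_apply.2 ?_)
      rw [Subgroup.mem_subgroupOf]
      refine hfree _ (a⁻¹ * b).2 x hx hx1 ?_
      have h' : (a : G) * x * (a : G)⁻¹ = (b : G) * x * (b : G)⁻¹ :=
        congrArg (fun y : {y : P // y ≠ 1} => ((y : P) : G)) h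
      simp only [Subgroup.coe_mul, Subgroup.coe_inv]
      calc (a : G)⁻¹ * b * x * ((a : G)⁻¹ * b)⁻¹ = (a : G)⁻¹ * (b * x * (b : G)⁻¹) * a := by group
        _ = x := by rw [← h']; group
    · rintro ⟨a⟩
      exact ⟨a, a.2, rfl⟩
  have hcard3 : Nat.card {y : P // y ≠ 1} = 3 := by
    haveI := Fintype.ofFinite P
    rw [Nat.card_eq_fintype_card, Fintype.card_subtype_compl, Fintype.card_subtype_eq,
      ← Nat.card_eq_fintype_card, hV.card_four]
  have hcardT : Nat.card (T ⧸ C.subgroupOf T) = C.relIndex T := rfl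
  obtain ⟨⟨x₀, hx₀⟩, hx₀1⟩ := exists_ne (1 : P)
  obtain ⟨f, hf, -⟩ := himg x₀ hx₀ fun h => hx₀1 (Subtype.ext h)
  have hle := Nat.card_le_card_of_injective f hf
  rw [hcard3, hcardT] at hle
  have hpos : 0 < C.relIndex T := hcardT ▸ Nat.card_pos
  rcases (show C.relIndex T = 1 ∨ C.relIndex T = 3 by omega) with h | h
  · exact Or.inl h
  refine Or.inr ⟨h, fun x hx hx1 y hy hy1 => ?_⟩
  obtain ⟨f, hf, hft⟩ := himg x hx hx1
  obtain ⟨q, hq⟩ := ((Nat.bijective_iff_injective_and_card f).2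
    ⟨hf, by rw [hcardT, hcard3, h]⟩).2 ⟨⟨y, hy⟩, fun e => hy1 (congrArg Subtype.val e)⟩
  obtain ⟨t, ht, htx⟩ := hft q
  exact ⟨t, ht, by rw [htx, hq]⟩

/-- The defect group of the block at a subsection. -/
theorem exists_defect_of_subsection (hM : IsPModular 2 M) (hB : IsPBlock M B)
    {g : MonoidAlgebra (kres M) G} (hmax : IsMaxPairIdem 2 ⊤ (topEl M B) P g) (hV : IsKleinFour P)
    {x : G} (hx : ∃ e : ℕ, orderOf x = 2 ^ e)
    {b : Set (IrrCharacter (Subgroup.centralizer ({x} : Set G)))}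
    (hb : IsInducedBlock M (Subgroup.centralizer ({x} : Set G)) b B) :
    ∃ (a : G) (D : Subgroup G), D = P.map (MulAut.conj a).toMonoidHom ∧ IsKleinFour D ∧ x ∈ D ∧
      D ≤ Subgroup.centralizer ({x} : Set G) ∧
      IsDefectGroup 2 M b (D.subgroupOf (Subgroup.centralizer ({x} : Set G))) := by
  obtain ⟨a, hle, -⟩ := exists_maxPair_above hM hB hmax hx hb
  have hV' := isKleinFour_map hV a
  obtain ⟨-, hD⟩ := maxPair_centralizer (isBlockIdem_topEl hB)
    (isMaxPairIdem_conj (isBlockIdem_topEl hB) hmax a) (comm_of_klein hV') hle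
  rw [HeightZero.centralizer_zpowers_eq] at hD
  exact ⟨a, _, rfl, hV', hle.le (Subgroup.mem_zpowers x), hD.1,
    (isDefectGroup_subgroupOf_iff hD.1 hb.1).2 hD⟩

end pairs

theorem blockRank_pos (hM : IsPModular 2 M) (hB : IsPBlock M B) : 0 < blockRank 2 B := by
  classical
  haveI := isMaximal_of_isPModular hM
  haveI := Fintype.ofFinite G
  haveI := finite_irrCharacter (G := G)
  obtain ⟨χ, hχ⟩ := nonempty_of_isPBlock hB
  rw [blockRank]
  haveI := Module.Finite.span_of_finite ℂ
    (A := (fun χ : IrrCharacter G => pRegularPart 2 (χ : G → ℂ)) '' B) (Set.toFinite _)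
  rw [Module.finrank_pos_iff_exists_ne_zero]
  refine ⟨⟨_, Submodule.subset_span ⟨χ, hχ, rfl⟩⟩, fun h => ?_⟩
  have h1 := congrFun (congrArg Subtype.val h) 1
  simp [pRegularPart, IsPRegular, Chars.map_one_ne_zero χ] at h1

/-- An involution of the defect group in the centre. -/
theorem blockRank_eq_one_of_central (hM : IsPModular 2 M) (hB : IsPBlock M B)
    (hPD : IsDefectGroup 2 M B P) (hV : IsKleinFour P) {x : G} (hx : x ∈ P) (hx1 : x ≠ 1)
    (hxc : x ∈ Subgroup.center G) : blockRank 2 B = 1 := by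
  classical
  haveI : M.IsMaximal := hM.2.1
  haveI : CharP (kres M) 2 := charP_kres hM
  haveI : Fact (Nat.Prime 2) := ⟨Nat.prime_two⟩
  haveI := Fintype.ofFinite G
  obtain ⟨g, hmax⟩ := exists_maxPair (M := M) hB hPD
  obtain ⟨hfree, -⟩ := inertial hB hmax hV
  obtain ⟨X, hX, hXrep, hXc⟩ := exists_reps (G := G) 2
  have hox : ∃ k : ℕ, orderOf x = 2 ^ k := ⟨1, by rw [orderOf_of_klein hV hx hx1, pow_one]⟩
  set Z : Finset G := {1, x} with hZd
  have hZ : ∀ z ∈ Z, z ∈ Subgroup.center G ∧ ∃ k : ℕ, orderOf z = 2 ^ k := by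
    intro z hz
    rcases Finset.mem_insert.1 hz with rfl | hz
    · exact ⟨one_mem _, 0, by simp⟩
    · rw [Finset.mem_singleton.1 hz]; exact ⟨hxc, hox⟩
  have hsub : ∀ y ∈ X, y ∉ Z → ∀ b, IsInducedBlock M (Subgroup.centralizer ({y} : Set G)) b B →
      blockRank 2 b = 1 ∧ orderOf y = 2 ∧ blockDefect 2 b = 2 := by
    intro y hy hyZ b hb
    simp only [hZd, Finset.mem_insert, Finset.mem_singleton, not_or] at hyZ
    obtain ⟨a, D, hDd, hDV, hyD, hDle, hbD⟩ := exists_defect_of_subsection hM hB hmax hV (hX y hy) hb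
    haveI := Fintype.ofFinite ↥(Subgroup.centralizer ({y} : Set G))
    have hxD : x ∈ D := by
      rw [hDd]
      refine ⟨x, hx, ?_⟩
      show a * x * a⁻¹ = x
      rw [Subgroup.mem_center_iff.1 hxc a, mul_inv_cancel_right]
    refine ⟨blockRank_eq_one_of_central_defect hM hb.1 ?_ hbD, orderOf_of_klein hDV hyD hyZ.1,
      blockDefect_of_klein hM hb.1 hbD (isKleinFour_subgroupOf hDV hDle)⟩
    intro d hd
    rw [Subgroup.mem_center_iff]
    intro h
    apply Subtype.ext
    have hyh : (h : G) * y = y * h := Subgroup.mem_centralizer_singleton_iff.1 h.2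
    have hxh : (h : G) * x = x * h := Subgroup.mem_center_iff.1 hxc h
    push_cast
    rcases eq_of_klein hDV hxD hyD hd hx1 hyZ.1 (Ne.symm hyZ.2) with e | e | e | e <;>
      simp only [Subgroup.coe_subtype] at e <;> rw [e]
    · rw [one_mul, mul_one]
    · exact hxh
    · exact hyh
    · rw [← mul_assoc, hxh, mul_assoc, hyh, ← mul_assoc]
  have hk := natCard_eq_add hM hB Z hZ X hX hXrep
    (fun z hz => hXc z (hZ z hz).1 (hZ z hz).2) fun y hy hyZ b hb => (hsub y hy hyZ b hb).1
  obtain ⟨Φ, hΦs, hΦ⟩ := exists_subsection_map hM hB hmax (comm_of_klein hV) X hX hXrep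
    (fun v => v ∉ Z) (fun a v => by
      have hconj : ∀ z ∈ Z, ∀ v : G, a * v * a⁻¹ = z ↔ v = z := fun z hz v => by
        have hcz : a * z * a⁻¹ = z := by
          rw [Subgroup.mem_center_iff.1 (hZ z hz).1 a, mul_inv_cancel_right]
        exact ⟨fun h => mul_left_cancel (mul_right_cancel (h.trans hcz.symm)), fun h => by rw [h, hcz]⟩
      simp only [hZd, Finset.mem_insert, Finset.mem_singleton]
      rw [hconj 1 (by simp [hZd]) v, hconj x (by simp [hZd]) v])
  have hinj : Function.Injective Φ := by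
    intro u v h
    obtain ⟨t, ht, htu⟩ := (hΦ u v).1 h
    have htC := hfree t ht x hx hx1 (by
      rw [Subgroup.mem_center_iff.1 hxc t, mul_inv_cancel_right])
    refine Subtype.ext ?_
    rw [← htu, ← Subgroup.mem_centralizer_iff.1 htC u u.2.1, mul_inv_cancel_right]
  have hW : Nat.card {u : G // u ∈ P ∧ u ∉ Z} = 2 := by
    haveI := Fintype.ofFinite P
    have hZP : ∀ z ∈ Z, z ∈ P := by
      intro z hz
      rcases Finset.mem_insert.1 hz with rfl | hz
      · exact one_mem P
      · rw [Finset.mem_singleton.1 hz]; exact hx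
    rw [Nat.card_eq_fintype_card, Fintype.card_subtype,
      show (Finset.univ.filter fun u => u ∈ P ∧ u ∉ Z) =
        (Finset.univ.filter fun u => u ∈ P) \ Z by ext u; simp,
      Finset.card_sdiff_of_subset (fun z hz => by simp [hZP z hz]), ← Fintype.card_subtype,
      ← Nat.card_eq_fintype_card, show Nat.card {u : G // u ∈ P} = 4 from hV.card_four,
      hZd, Finset.card_pair (Ne.symm hx1)]
  have hS := Nat.card_eq_of_bijective Φ ⟨hinj, hΦs⟩
  rw [← hS, hW, hZd, Finset.card_pair (Ne.symm hx1)] at hk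
  -- a major subsection of rank one
  haveI : Nonempty {u : G // u ∈ P ∧ u ∉ Z} := (Nat.card_pos_iff.1 (by omega)).1
  obtain ⟨⟨y, hy, hyZ⟩, b, hb⟩ := Φ (Classical.arbitrary _)
  haveI := Fintype.ofFinite ↥(Subgroup.centralizer ({y} : Set G))
  obtain ⟨hl, hoy, hdb⟩ := hsub y hy hyZ b hb
  have h4 := natCard_eq_four hM hoy hB (blockDefect_of_klein hM hB hPD hV) rfl hb hdb hl
  omega

/-- A block with a Klein four defect group. -/
theorem natCard_and_rank [M.IsMaximal] [CharP (kres M) 2] [Fact (Nat.Prime 2)]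
    (hM : IsPModular 2 M) (hB : IsPBlock M B) (hPD : IsDefectGroup 2 M B P) (hV : IsKleinFour P)
    {g : MonoidAlgebra (kres M) G} (hmax : IsMaxPairIdem 2 ⊤ (topEl M B) P g) :
    Nat.card B = 4 ∧
      blockRank 2 B = (Subgroup.centralizer (P : Set G)).relIndex (pairStab ⊤ P g) := by
  classical
  haveI := Fintype.ofFinite G
  obtain ⟨-, hidx⟩ := inertial hB hmax hV
  obtain ⟨X, hX, hXrep, hXc⟩ := exists_reps (G := G) 2
  set Z : Finset G := {1} with hZd
  have hsub : ∀ y ∈ X, y ∉ Z → ∀ b, IsInducedBlock M (Subgroup.centralizer ({y} : Set G)) b B →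
      blockRank 2 b = 1 ∧ orderOf y = 2 ∧ blockDefect 2 b = 2 := by
    intro y hy hyZ b hb
    rw [hZd, Finset.mem_singleton] at hyZ
    obtain ⟨a, D, -, hDV, hyD, hDle, hbD⟩ := exists_defect_of_subsection hM hB hmax hV (hX y hy) hb
    have hV' := isKleinFour_subgroupOf hDV hDle
    refine ⟨blockRank_eq_one_of_central hM hb.1 hbD hV'
      (x := (⟨y, hDle hyD⟩ : Subgroup.centralizer ({y} : Set G))) hyD
      (fun h => hyZ (congrArg Subtype.val h)) ?_,
      orderOf_of_klein hDV hyD hyZ, blockDefect_of_klein hM hb.1 hbD hV'⟩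
    exact Subgroup.mem_center_iff.2 fun h =>
      Subtype.ext (Subgroup.mem_centralizer_singleton_iff.1 h.2)
  have hZ : ∀ z ∈ Z, z ∈ Subgroup.center G ∧ ∃ k : ℕ, orderOf z = 2 ^ k := fun z hz => by
    rw [Finset.mem_singleton.1 hz]
    exact ⟨one_mem _, 0, by simp⟩
  have hk := natCard_eq_add hM hB Z hZ X hX hXrep
    (fun z hz => hXc z (hZ z hz).1 (hZ z hz).2) fun y hy hyZ b hb => (hsub y hy hyZ b hb).1
  rw [hZd, Finset.card_singleton, one_mul] at hk
  obtain ⟨Φ, hΦs, hΦ⟩ := exists_subsection_map hM hB hmax (comm_of_klein hV) X hX hXrep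
    (fun v => v ∉ Z) (fun a v => by simp [hZd])
  haveI := hV
  haveI : Nontrivial P := Finite.one_lt_card_iff_nontrivial.1 (by rw [hV.card_four]; norm_num)
  obtain ⟨⟨u, hu⟩, hu1⟩ := exists_ne (1 : P)
  have huZ : u ∉ Z := fun h => hu1 (Subtype.ext (Finset.mem_singleton.1 h))
  have h4 : Nat.card B = 4 := by
    obtain ⟨⟨y, hy, hyZ⟩, b, hb⟩ := Φ ⟨u, hu, huZ⟩
    haveI := Fintype.ofFinite ↥(Subgroup.centralizer ({y} : Set G))
    obtain ⟨hl, hoy, hdb⟩ := hsub y hy hyZ b hb
    exact natCard_eq_four hM hoy hB (blockDefect_of_klein hM hB hPD hV) rfl hb hdb hl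
  refine ⟨h4, ?_⟩
  rcases hidx with h1 | ⟨h3, htrans⟩
  · have hinj : Function.Injective Φ := by
      intro v w h
      obtain ⟨t, ht, htv⟩ := (hΦ v w).1 h
      have htC := Subgroup.relIndex_eq_one.1 h1 ht
      refine Subtype.ext ?_
      rw [← htv, ← Subgroup.mem_centralizer_iff.1 htC v v.2.1, mul_inv_cancel_right]
    have hW : Nat.card {u : G // u ∈ P ∧ u ∉ Z} = 3 := by
      haveI := Fintype.ofFinite P
      rw [Nat.card_eq_fintype_card, Fintype.card_subtype,
        show (Finset.univ.filter fun u => u ∈ P ∧ u ∉ Z) =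
          (Finset.univ.filter fun u => u ∈ P) \ Z by ext u; simp,
        Finset.card_sdiff_of_subset (fun z hz => by simp [Finset.mem_singleton.1 hz, one_mem]),
        ← Fintype.card_subtype, ← Nat.card_eq_fintype_card,
        show Nat.card {u : G // u ∈ P} = 4 from hV.card_four, hZd, Finset.card_singleton]
    rw [h4, ← Nat.card_eq_of_bijective Φ ⟨hinj, hΦs⟩, hW] at hk
    rw [h1]
    omega
  · have hone : ∀ s t, Φ s = t → Φ ⟨u, hu, huZ⟩ = t := by
      intro s t hs
      rw [← hs]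
      refine (hΦ _ _).2 (htrans u hu (fun h => hu1 (Subtype.ext h)) s s.2.1 fun h => s.2.2 ?_)
      rw [h]
      exact Finset.mem_singleton_self 1
    have hcard : Nat.card (Σ x : {x : G // x ∈ X ∧ x ∉ Z},
        {b : Set (IrrCharacter (Subgroup.centralizer ({(x : G)} : Set G))) //
          IsInducedBlock M (Subgroup.centralizer ({(x : G)} : Set G)) b B}) = 1 := by
      refine Nat.card_eq_one_iff_unique.2 ⟨⟨fun s t => ?_⟩, ⟨Φ ⟨u, hu, huZ⟩⟩⟩
      obtain ⟨s', hs⟩ := hΦs s
      obtain ⟨t', ht⟩ := hΦs t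
      rw [← hone s' s hs, ← hone t' t ht]
    rw [h4, hcard] at hk
    rw [h3]
    omega

end CfsgLib.Blocks.KleinFour
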